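import Mathlib

/-! Finite presentation of a module relative to a presentation of the algebra. -/

namespace Groth.Agent.RelFPLib

open TensorProduct

universe u

/-- `M` is finitely presented over `P` through `φ : P → A`. -/
abbrev FPVia {P A : Type u} [CommRing P] [CommRing A] (φ : P →+* A) (M : Type u) [AddCommGroup M] [Module A M] : Prop :=
  @Module.FinitePresentation P M _ _ (Module.compHom M φ)

section Transfer

variable {P Q M : Type u} [CommRing P] [CommRing Q] [Algebra P Q] [AddCommGroup M] [Module P M] [Module Q M]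
  [IsScalarTower P Q M]

theorem isBaseChange_id (hs : Function.Surjective (algebraMap P Q)) : IsBaseChange Q (LinearMap.id : M →ₗ[P] M) := by
  refine IsBaseChange.of_lift_unique _ ?_
  intro X _ _ _ _ g
  let G : M →ₗ[Q] X :=
    { toFun := g
      map_add' := g.map_add
      map_smul' := fun q m => by
        obtain ⟨p, rfl⟩ := hs q
        rw [algebraMap_smul, g.map_smul, RingHom.id_apply, algebraMap_smul] }
  exact ⟨G, LinearMap.ext fun m => rfl, fun G' hG' => LinearMap.ext fun m => LinearMap.congr_fun hG' m⟩

theorem fp_quotient (hs : Function.Surjective (algebraMap P Q)) [Module.FinitePresentation P M] :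
    Module.FinitePresentation Q M :=
  FinitePresentation.of_isBaseChange _ (isBaseChange_id hs)

theorem fp_iff_of_surjective (hs : Function.Surjective (algebraMap P Q)) (hk : (RingHom.ker (algebraMap P Q)).FG) :
    Module.FinitePresentation P M ↔ Module.FinitePresentation Q M := by
  refine ⟨fun _ => fp_quotient hs, fun _ => ?_⟩
  haveI : Module.FinitePresentation P Q :=
    Module.finitePresentation_of_surjective (Algebra.linearMap P Q) hs hk
  exact Module.FinitePresentation.trans P M Q

end Transfer

variable {R : Type u} [CommRing R]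

theorem fpVia_comp {P P' A : Type u} [CommRing P] [CommRing P'] [CommRing A] (π : P' →+* P)
    (hs : Function.Surjective π) (hk : (RingHom.ker π).FG) (φ : P →+* A)
    (M : Type u) [AddCommGroup M] [Module A M] : FPVia (φ.comp π) M ↔ FPVia φ M := by
  letI := Module.compHom M φ
  letI := Module.compHom M (φ.comp π)
  letI := π.toAlgebra
  haveI : IsScalarTower P' P M := ⟨fun p q m => by
    show φ (π p * q) • m = φ (π p) • (φ q • m)
    rw [map_mul, mul_smul]⟩
  exact fp_iff_of_surjective hs hk

theorem fpVia_target {P A : Type u} [CommRing P] [CommRing A] (φ : P →+* A) (hs : Function.Surjective φ)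
    (M : Type u) [AddCommGroup M] [Module A M] (h : FPVia φ M) : Module.FinitePresentation A M := by
  letI := Module.compHom M φ
  letI := φ.toAlgebra
  haveI : IsScalarTower P A M := ⟨fun p q m => by
    show (φ p * q) • m = φ p • (q • m)
    rw [mul_smul]⟩
  haveI : Module.FinitePresentation P M := h
  exact fp_quotient (P := P) hs

/-- The notion does not depend on the chosen finitely presented cover of the algebra. -/
theorem fpVia_iff {P₁ P₂ A : Type u} [CommRing P₁] [CommRing P₂] [CommRing A] [Algebra R P₁] [Algebra R P₂]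
    [Algebra R A] [Algebra.FinitePresentation R P₁] [Algebra.FinitePresentation R P₂]
    (α : P₁ →ₐ[R] A) (hα : Function.Surjective α) (β : P₂ →ₐ[R] A) (hβ : Function.Surjective β)
    (M : Type u) [AddCommGroup M] [Module A M] : FPVia α.toRingHom M ↔ FPVia β.toRingHom M := by
  obtain ⟨n, a, ha⟩ := Algebra.FiniteType.iff_quotient_mvPolynomial''.mp (inferInstance : Algebra.FiniteType R P₁)
  obtain ⟨m, b, hb⟩ := Algebra.FiniteType.iff_quotient_mvPolynomial''.mp (inferInstance : Algebra.FiniteType R P₂)
  choose l hl using fun j : Fin m => hα (β (b (MvPolynomial.X j)))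
  choose l' hl' using fun i : Fin n => hβ (α (a (MvPolynomial.X i)))
  let π₁ : MvPolynomial (Fin n ⊕ Fin m) R →ₐ[R] P₁ := MvPolynomial.aeval (Sum.elim (fun i => a (MvPolynomial.X i)) l)
  let π₂ : MvPolynomial (Fin n ⊕ Fin m) R →ₐ[R] P₂ := MvPolynomial.aeval (Sum.elim l' (fun j => b (MvPolynomial.X j)))
  have h1 : Function.Surjective π₁ := fun x => by
    obtain ⟨p, rfl⟩ := ha x
    refine ⟨MvPolynomial.rename Sum.inl p, ?_⟩
    have h : π₁.comp (MvPolynomial.rename Sum.inl) = a := MvPolynomial.algHom_ext fun i => by simp [π₁]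
    exact AlgHom.congr_fun h p
  have h2 : Function.Surjective π₂ := fun x => by
    obtain ⟨p, rfl⟩ := hb x
    refine ⟨MvPolynomial.rename Sum.inr p, ?_⟩
    have h : π₂.comp (MvPolynomial.rename Sum.inr) = b := MvPolynomial.algHom_ext fun i => by simp [π₂]
    exact AlgHom.congr_fun h p
  have heq : α.comp π₁ = β.comp π₂ := MvPolynomial.algHom_ext fun i => by
    rcases i with i | j
    · simp [π₁, π₂, hl']
    · simp [π₁, π₂, hl]
  rw [← fpVia_comp π₁.toRingHom h1 (Algebra.FinitePresentation.ker_fG_of_surjective π₁ h1) α.toRingHom,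
    ← fpVia_comp π₂.toRingHom h2 (Algebra.FinitePresentation.ker_fG_of_surjective π₂ h2) β.toRingHom]
  rw [show α.toRingHom.comp π₁.toRingHom = β.toRingHom.comp π₂.toRingHom from congrArg AlgHom.toRingHom heq]

theorem fpVia_tensor {A A' : Type u} [CommRing A] [CommRing A'] [Algebra R A] [Algebra A A'] [Algebra R A']
    [IsScalarTower R A A'] [Algebra.FinitePresentation A A'] (M : Type u) [AddCommGroup M] [Module A M]
    {n k : ℕ} (α : MvPolynomial (Fin n) R →ₐ[R] A) (hα : Function.Surjective α) (hM : FPVia α.toRingHom M)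
    (γ : MvPolynomial (Fin k) R →ₐ[R] A') (hγ : Function.Surjective γ) : FPVia γ.toRingHom (A' ⊗[A] M) := by
  classical
  let P := MvPolynomial (Fin n) R
  obtain ⟨d, f, hf, hfk⟩ := (inferInstance : Algebra.FinitePresentation A A').out
  let P' := MvPolynomial (Fin d) P
  let q : P' →+* MvPolynomial (Fin d) A := MvPolynomial.map α.toRingHom
  let ψ : P' →ₐ[R] A' := (f.restrictScalars R).comp (MvPolynomial.mapAlgHom α)
  have hq : Function.Surjective q := MvPolynomial.map_surjective _ hα
  have hψ : Function.Surjective ψ := hf.comp hq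
  haveI : Algebra.FinitePresentation R P' := Algebra.FinitePresentation.trans R P P'
  rw [fpVia_iff γ hγ ψ hψ]
  letI : Module P M := Module.compHom M α.toRingHom
  haveI : Module.FinitePresentation P M := hM
  letI : Module P' (A' ⊗[A] M) := Module.compHom _ ψ.toRingHom
  letI : AddCommGroup (P' ⊗[P] M) := TensorProduct.addCommGroup (M := P') (N := M)
  let bil : P' →ₗ[P'] M →+ A' ⊗[A] M :=
    { toFun := fun p => (TensorProduct.mk A A' M (ψ p)).toAddMonoidHom
      map_add' := fun a b => by ext m; simp [TensorProduct.add_tmul]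
      map_smul' := fun a b => by
        ext m
        show ψ (a * b) ⊗ₜ[A] m = ψ a • (ψ b ⊗ₜ[A] m)
        rw [map_mul, TensorProduct.smul_tmul', smul_eq_mul] }
  let w₀ : P' ⊗[P] M →+ A' ⊗[A] M := TensorProduct.liftAddHom bil.toAddMonoidHom fun r p m => by
    show ψ (r • p) ⊗ₜ[A] m = ψ p ⊗ₜ[A] (α r • m)
    rw [← TensorProduct.smul_tmul, Algebra.smul_def, map_mul, Algebra.smul_def]
    congr 2
    show f (MvPolynomial.map α.toRingHom (MvPolynomial.C r)) = _
    rw [MvPolynomial.map_C, ← MvPolynomial.algebraMap_eq, f.commutes]; rfl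
  let w : P' ⊗[P] M →ₗ[P'] A' ⊗[A] M :=
    { w₀ with
      map_smul' := fun a x => by
        show w₀ (a • x) = a • w₀ x
        induction x using TensorProduct.induction_on with
        | zero => simp
        | tmul p m =>
          rw [TensorProduct.smul_tmul']
          exact congrArg (fun g : M →+ A' ⊗[A] M => g m) (bil.map_smul a p)
        | add u v hu hv => rw [smul_add, map_add, map_add, hu, hv, smul_add] }
  have hw : ∀ p m, w (p ⊗ₜ[P] m) = ψ p ⊗ₜ[A] m := fun p m => rfl
  have hws : Function.Surjective w := fun x => by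
    induction x using TensorProduct.induction_on with
    | zero => exact ⟨0, map_zero w⟩
    | tmul a m => obtain ⟨p, rfl⟩ := hψ a; exact ⟨p ⊗ₜ m, hw p m⟩
    | add u v hu hv =>
      obtain ⟨a, rfl⟩ := hu; obtain ⟨b, rfl⟩ := hv
      exact ⟨a + b, map_add w a b⟩
  -- the kernel is cut out by lifts of the relations of `A'`
  obtain ⟨T, hT⟩ := hfk
  let J : Ideal P' := Ideal.span (Function.surjInv hq '' (T : Set (MvPolynomial (Fin d) A)))
  have hJfg : J.FG := Submodule.fg_span (T.finite_toSet.image _)
  have hJle : J ≤ RingHom.ker ψ.toRingHom := by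
    refine Ideal.span_le.mpr ?_
    rintro _ ⟨t, ht, rfl⟩
    show f (q (Function.surjInv hq t)) = 0
    rw [Function.surjInv_eq hq t]
    exact (hT.symm ▸ Submodule.subset_span ht : t ∈ RingHom.ker f.toRingHom)
  let L : Submodule P' (P' ⊗[P] M) := J • ⊤
  have hdec : ∀ p ∈ RingHom.ker ψ.toRingHom, ∀ x : P' ⊗[P] M, p • x ∈ L := by
    intro p hp x
    have hp' : q p ∈ RingHom.ker f.toRingHom := hp
    rw [← hT] at hp'
    have hJmap : q p ∈ J.map q := by
      refine (Submodule.span_le.mpr ?_) hp'
      intro t ht
      exact (Function.surjInv_eq hq t) ▸ Ideal.mem_map_of_mem q (Ideal.subset_span ⟨t, ht, rfl⟩)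
    obtain ⟨j, hj, hjp⟩ := (Ideal.mem_map_iff_of_surjective q hq).mp hJmap
    have hk : p - j ∈ (RingHom.ker α.toRingHom).map (MvPolynomial.C : P →+* P') := by
      rw [MvPolynomial.mem_map_C_iff]
      intro e
      rw [RingHom.mem_ker, ← MvPolynomial.coeff_map, map_sub]
      show (q p - q j).coeff e = 0
      rw [hjp, sub_self, MvPolynomial.coeff_zero]
    have hkill : (RingHom.ker α.toRingHom).map (MvPolynomial.C : P →+* P') ≤ (⊤ : Submodule P' (P' ⊗[P] M)).annihilator := by
      refine Ideal.map_le_iff_le_comap.mpr fun r hr => Submodule.mem_annihilator.mpr fun y hy => ?_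
      clear hy
      rw [← MvPolynomial.algebraMap_eq, algebraMap_smul]
      induction y using TensorProduct.induction_on with
      | zero => simp
      | tmul a m =>
        rw [← TensorProduct.tmul_smul, show r • m = α r • m from rfl, show α r = 0 from hr, zero_smul, TensorProduct.tmul_zero]
      | add u v hu hv => rw [smul_add, hu, hv, add_zero]
    have h0 : (p - j) • x = 0 := Submodule.mem_annihilator.mp (hkill hk) x Submodule.mem_top
    rw [sub_smul, sub_eq_zero] at h0
    rw [h0]
    exact Submodule.smul_mem_smul hj Submodule.mem_top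
  -- inverse to the induced map
  let g : A' → M → (P' ⊗[P] M) ⧸ L := fun a m => L.mkQ (Function.surjInv hψ a ⊗ₜ[P] m)
  have hg : ∀ (p : P') (m : M), g (ψ p) m = L.mkQ (p ⊗ₜ[P] m) := fun p m => by
    refine (Submodule.Quotient.eq L).mpr ?_
    rw [← TensorProduct.sub_tmul, show ((Function.surjInv hψ (ψ p) - p) ⊗ₜ[P] m : P' ⊗[P] M) =
      (Function.surjInv hψ (ψ p) - p) • ((1 : P') ⊗ₜ[P] m) by rw [TensorProduct.smul_tmul', smul_eq_mul, mul_one]]
    refine hdec _ ?_ _
    rw [RingHom.mem_ker, map_sub]
    exact sub_eq_zero.mpr (Function.surjInv_eq hψ (ψ p))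
  let gh : A' →+ M →+ (P' ⊗[P] M) ⧸ L :=
    { toFun := fun a =>
        { toFun := g a
          map_zero' := by simp [g]
          map_add' := fun x y => by simp [g, TensorProduct.tmul_add] }
      map_zero' := by
        ext m
        show g 0 m = 0
        rw [← map_zero ψ, hg, TensorProduct.zero_tmul, map_zero]
      map_add' := fun a b => by
        obtain ⟨p, rfl⟩ := hψ a
        obtain ⟨p', rfl⟩ := hψ b
        ext m
        show g (ψ p + ψ p') m = g (ψ p) m + g (ψ p') m
        rw [← map_add, hg, hg, hg, TensorProduct.add_tmul, map_add] }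
  let back : A' ⊗[A] M →+ (P' ⊗[P] M) ⧸ L := TensorProduct.liftAddHom gh fun r a m => by
    obtain ⟨p, rfl⟩ := hψ a
    obtain ⟨s, rfl⟩ := hα r
    show g (α s • ψ p) m = g (ψ p) (α s • m)
    have h1 : α s • ψ p = ψ (s • p) := by
      rw [Algebra.smul_def, Algebra.smul_def, map_mul]
      congr 1
      show _ = f (MvPolynomial.map α.toRingHom (MvPolynomial.C s))
      rw [MvPolynomial.map_C, ← MvPolynomial.algebraMap_eq, f.commutes]; rfl
    rw [h1, hg, hg, TensorProduct.smul_tmul]; rfl
  have hback : ∀ x, back (w x) = L.mkQ x := fun x => by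
    induction x using TensorProduct.induction_on with
    | zero => simp
    | tmul p m => exact hg p m
    | add u v hu hv => rw [map_add, map_add, hu, hv, map_add]
  have hker : LinearMap.ker w = L := by
    refine le_antisymm (fun x hx => ?_) (Submodule.smul_le.mpr fun r hr x _ => ?_)
    · rw [← Submodule.Quotient.mk_eq_zero, ← Submodule.mkQ_apply, ← hback x, LinearMap.mem_ker.mp hx, map_zero]
    · rw [LinearMap.mem_ker, map_smul]
      show ψ r • w x = 0
      rw [show ψ r = 0 from hJle hr, zero_smul]
  exact Module.finitePresentation_of_surjective w hws (hker ▸ Submodule.FG.smul hJfg Module.Finite.fg_top)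

end Groth.Agent.RelFPLib
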